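import Groth.Agent.GrpAmple.Main
import Groth.Agent.NilAffine.Main
import Groth.Agent.TMul.AmpleBasis
import Groth.Agent.HomRep.MorGlue
import Groth.Prelude.Def_WeilRes

/-!
Weil restriction of a group scheme of finite type along a finite algebra over a field.
-/

set_option autoImplicit false
set_option linter.style.haveILetI false
set_option backward.isDefEq.respectTransparency false
set_option backward.isDefEq.respectTransparency.types false

universe u

open CategoryTheory CategoryTheory.Limits AlgebraicGeometry TopologicalSpace MonoidalCategory CartesianMonoidalCategory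

noncomputable section

namespace Groth.Agent.WeilGrp

/-- A finite set of points of a group scheme of finite type over an Artinian ring lies in an affine open. -/
theorem exists_affine_finite {A : Type u} [CommRing A] [IsArtinianRing A]
    (G : Over (Spec (CommRingCat.of A))) [GrpObj G] [LocallyOfFiniteType G.hom] [QuasiCompact G.hom]
    (S : Set G.left) (hS : S.Finite) : ∃ U : G.left.Opens, IsAffineOpen U ∧ S ⊆ (U : Set G.left) := by
  classical
  let B := Spec (CommRingCat.of A)
  haveI : Finite B := inferInstanceAs (Finite (PrimeSpectrum A))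
  haveI : DiscreteTopology B := inferInstanceAs (DiscreteTopology (PrimeSpectrum A))
  have key : ∀ b : B, ∃ V : G.left.Opens, IsAffineOpen V ∧ (∀ z ∈ S, G.hom z = b → z ∈ V) ∧
      ∀ z ∈ V, G.hom z = b := by
    intro b
    let i₀ := B.fromSpecResidueField b
    haveI : IsClosedImmersion i₀ :=
      IsClosedImmersion.of_isPreimmersion i₀ (isClosed_discrete _)
    let H := Red.bc i₀ G
    letI : GrpObj H := Red.grpObj_bc i₀ G
    haveI : LocallyOfFiniteType H.hom := inferInstanceAs (LocallyOfFiniteType (pullback.snd G.hom i₀))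
    haveI : QuasiCompact H.hom := inferInstanceAs (QuasiCompact (pullback.snd G.hom i₀))
    obtain ⟨L, hL⟩ := GrpAmple.exists_isAmple_grp H
    let i : H.left ⟶ G.left := pullback.fst G.hom i₀
    haveI : IsClosedImmersion i := inferInstanceAs (IsClosedImmersion (pullback.fst G.hom i₀))
    obtain ⟨n, t, hSt, -, ht⟩ := TMul.exists_finite_le hL
      (hS.preimage i.isClosedEmbedding.injective.injOn) (U := ⊤) (fun x _ => trivial)
    let W := CohB1.genLocus _ t
    obtain ⟨O, hO, hOW⟩ := i.isClosedEmbedding.isInducing.isOpen_iff.1 W.2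
    let V : G.left.Opens := ⟨O, hO⟩ ⊓ G.hom ⁻¹ᵁ ⟨{b}, isOpen_discrete _⟩
    have hrange : Set.range i = G.hom ⁻¹' {b} := by
      rw [show Set.range i = G.hom ⁻¹' Set.range i₀ from Scheme.Pullback.range_fst G.hom i₀,
        Scheme.range_fromSpecResidueField]
    have hpre : i ⁻¹ᵁ V = W := by
      ext x
      show i x ∈ V ↔ x ∈ W
      have h1 : G.hom (i x) = b := by
        have : i x ∈ G.hom ⁻¹' {b} := hrange ▸ Set.mem_range_self x
        exact this
      constructor
      · rintro ⟨hx, -⟩
        exact (Set.ext_iff.1 hOW x).1 hx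
      · exact fun hx => ⟨(Set.ext_iff.1 hOW x).2 hx, h1⟩
    haveI : IsAffine ((i ⁻¹ᵁ V : H.left.Opens) : Scheme.{u}) := hpre ▸ ht
    haveI : IsClosedImmersion (i ∣_ V) := IsZariskiLocalAtTarget.restrict (P := @IsClosedImmersion) inferInstance _
    haveI : Surjective (i ∣_ V) := ⟨fun v => by
      obtain ⟨x, hx⟩ : v.1 ∈ Set.range i := hrange ▸ v.2.2
      refine ⟨⟨x, show i x ∈ V from hx ▸ v.2⟩, V.ι.isOpenEmbedding.injective ?_⟩
      exact (congrArg (fun m : ((i ⁻¹ᵁ V : H.left.Opens) : Scheme.{u}) ⟶ G.left => m ⟨x, _⟩)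
        (morphismRestrict_ι i V)).trans hx⟩
    refine ⟨V, NilAffine.isAffine_of_surjective (i ∣_ V), fun z hz hzb => ?_, fun z hz => hz.2⟩
    obtain ⟨x, rfl⟩ : z ∈ Set.range i := hrange ▸ hzb
    exact ⟨(Set.ext_iff.1 hOW x).2 (hSt hz), hzb⟩
  choose V hV hSV hVb using key
  refine ⟨iSup V, IsAffineOpen.iSup_of_disjoint hV fun a b hab => ?_,
    fun z hz => Opens.mem_iSup.2 ⟨G.hom z, hSV _ z hz rfl⟩⟩
  show Disjoint (V a) (V b)
  rw [← Opens.coe_disjoint, Set.disjoint_left]
  exact fun z ha hb => hab ((hVb a z ha).symm.trans (hVb b z hb))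

/-- Weil restriction exists when every finite set of points lies in an affine open. -/
theorem exists_isWeilRes {S S' : Scheme.{u}} (f : S' ⟶ S) [IsFinite f] [Flat f] [LocallyOfFinitePresentation f]
    (X' : Over S') (haf : ∀ F : Set X'.left, F.Finite → ∃ U : X'.left.Opens, IsAffineOpen U ∧ F ⊆ (U : Set X'.left)) :
    ∃ (R : Over S) (q : Red.bc f R ⟶ X'), WeilRes.IsWeilRes f X' R q := by
  haveI : IsAffineHom (Over.mk f).hom := inferInstanceAs (IsAffineHom f)
  haveI : IsFinite (Over.mk f).hom := inferInstanceAs (IsFinite f)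
  haveI : Flat (Over.mk f).hom := inferInstanceAs (Flat f)
  haveI : LocallyOfFinitePresentation (Over.mk f).hom := inferInstanceAs (LocallyOfFinitePresentation f)
  obtain ⟨A, -, ⟨rA⟩⟩ := Groth.Agent.HomRep.morS_representable f f
  obtain ⟨H, ⟨rH⟩⟩ := Groth.Agent.HomRep.morS_isRepresentable (g := f) (f := X'.hom ≫ f) fun T x p => by
    obtain ⟨U, hU, hF⟩ := haf (x.φ '' (pullback.fst x.t f ⁻¹' {p}))
      (((pullback.fst x.t f).finite_preimage_singleton p).image _)
    exact ⟨U, hU, fun z hz => hF ⟨z, hz, rfl⟩⟩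
  let u : (Over.map f).obj ((Over.pullback f).obj H) ⟶ Over.mk (X'.hom ≫ f) := rH.homEquiv (𝟙 H)
  let post : Over.mk (X'.hom ≫ f) ⟶ Over.mk f := Over.homMk X'.hom rfl
  let str : ∀ T : Over S, (Over.map f).obj ((Over.pullback f).obj T) ⟶ Over.mk f := fun T =>
    Over.homMk (pullback.snd T.hom f) rfl
  let α : H ⟶ A := rA.homEquiv.symm (u ≫ post)
  let β : H ⟶ A := rA.homEquiv.symm (str H)
  have hA : ∀ {T : Over S} (v : T ⟶ H) (c : (Over.map f).obj ((Over.pullback f).obj H) ⟶ Over.mk f),
      rA.homEquiv (v ≫ rA.homEquiv.symm c) = (Over.map f).map ((Over.pullback f).map v) ≫ c := fun v c => by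
    rw [rA.homEquiv_comp]
    exact congrArg ((Flatn.morS f f).map v.op) (Equiv.apply_symm_apply _ c)
  have hH : ∀ {T : Over S} (v : T ⟶ H), rH.homEquiv v = (Over.map f).map ((Over.pullback f).map v) ≫ u := fun v => by
    rw [rH.homEquiv_eq v]
    rfl
  have hcrit : ∀ {T : Over S} (v : T ⟶ H), v ≫ α = v ≫ β ↔ (rH.homEquiv v).left ≫ X'.hom = pullback.snd T.hom f := by
    intro T v
    rw [← rA.homEquiv.apply_eq_iff_eq, hA, hA, hH]
    constructor
    · intro h
      have := congrArg CommaMorphism.left h
      simp [post, str] at this ⊢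
      exact this
    · intro h
      apply Over.OverMorphism.ext
      simp [post, str] at h ⊢
      exact h
  let R := equalizer α β
  let ι := equalizer.ι α β
  let q : Red.bc f R ⟶ X' := Over.homMk (rH.homEquiv ι).left ((hcrit ι).1 (equalizer.condition α β))
  refine ⟨R, q, fun T => ⟨fun v w h => ?_, fun b => ?_⟩⟩
  · apply equalizer.hom_ext
    apply rH.homEquiv.injective
    rw [rH.homEquiv_comp, rH.homEquiv_comp]
    apply Over.OverMorphism.ext
    have h' := congrArg CommaMorphism.left h
    exact h'
  · let b' : (Over.map f).obj ((Over.pullback f).obj T) ⟶ Over.mk (X'.hom ≫ f) :=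
      Over.homMk b.left (by
        show b.left ≫ X'.hom ≫ f = pullback.snd T.hom f ≫ f
        rw [← Category.assoc, Over.w b]
        rfl)
    have hb : rH.homEquiv (rH.homEquiv.symm b') = b' := rH.homEquiv.apply_symm_apply b'
    let v : T ⟶ H := rH.homEquiv.symm b'
    have hv : v ≫ α = v ≫ β := (hcrit v).2 (by
      rw [hb]
      exact Over.w b)
    refine ⟨equalizer.lift v hv, ?_⟩
    apply Over.OverMorphism.ext
    show ((Over.pullback f).map (equalizer.lift v hv)).left ≫ (rH.homEquiv ι).left = b.left
    have h := rH.homEquiv_comp (equalizer.lift v hv) ι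
    rw [equalizer.lift_ι, hb] at h
    exact (congrArg CommaMorphism.left h).symm

/-- The case of a finite algebra over a field. -/
theorem exists_isWeilRes_finite (k A : Type u) [Field k] [CommRing A] [Algebra k A] [Module.Finite k A]
    (G : Over (Spec (CommRingCat.of A))) [GrpObj G] [LocallyOfFiniteType G.hom] [QuasiCompact G.hom] :
    ∃ (R : Over (Spec (CommRingCat.of k)))
      (q : Red.bc (Spec.map (CommRingCat.ofHom (algebraMap k A))) R ⟶ G),
      WeilRes.IsWeilRes (Spec.map (CommRingCat.ofHom (algebraMap k A))) G R q := by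
  haveI : IsArtinianRing A := IsArtinianRing.of_finite k A
  haveI : IsFinite (Spec.map (CommRingCat.ofHom (algebraMap k A))) :=
    (IsFinite.SpecMap_iff _).2 (RingHom.finite_algebraMap.2 inferInstance)
  haveI : Flat (Spec.map (CommRingCat.ofHom (algebraMap k A))) :=
    (HasRingHomProperty.Spec_iff (P := @Flat)).2 (RingHom.flat_algebraMap_iff.2 inferInstance)
  haveI : LocallyOfFinitePresentation (Spec.map (CommRingCat.ofHom (algebraMap k A))) :=
    (HasRingHomProperty.Spec_iff (P := @LocallyOfFinitePresentation)).2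
      (RingHom.finitePresentation_algebraMap.2 (Algebra.FinitePresentation.of_finiteType.1 inferInstance))
  exact exists_isWeilRes _ G (fun F hF => exists_affine_finite G F hF)

end Groth.Agent.WeilGrp
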